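import Mathlib
import Cfsg.Agent.H1.MinNormal
import Cfsg.Agent.H1.Prim
/-!
Minimal normal subgroups of primitive groups: simple factors.
-/
set_option autoImplicit false
set_option maxHeartbeats 400000
namespace CfsgL.ONS
open Subgroup
open scoped Pointwise commutatorElement

variable {G : Type*} [Group G]

theorem mem_cj {T : Subgroup G} {g x : G} : x ∈ MulAut.conj g • T ↔ g⁻¹ * x * g ∈ T := by
  rw [Subgroup.mem_pointwise_smul_iff_inv_smul_mem]
  have h : (MulAut.conj g)⁻¹ • x = g⁻¹ * x * g := by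
    rw [MulAut.smul_def, MulAut.conj_inv_apply]
  rw [h]

theorem cj_mem {T : Subgroup G} {x : G} (g : G) (hx : x ∈ T) : g * x * g⁻¹ ∈ MulAut.conj g • T := by
  rw [mem_cj]
  have : g⁻¹ * (g * x * g⁻¹) * g = x := by group
  rw [this]; exact hx

theorem cj_one (T : Subgroup G) : MulAut.conj (1 : G) • T = T := by rw [map_one, one_smul]

theorem cj_mul (T : Subgroup G) (g h : G) : MulAut.conj (g * h) • T = MulAut.conj g • MulAut.conj h • T := by
  rw [map_mul, mul_smul]

structure Fac (N T : Subgroup G) : Prop where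
  le : T ≤ N
  ne : T ≠ ⊥
  norm : ∀ n ∈ N, ∀ t ∈ T, n * t * n⁻¹ ∈ T
  min : ∀ X : Subgroup G, X ≤ T → (∀ n ∈ N, ∀ t ∈ X, n * t * n⁻¹ ∈ X) → X = ⊥ ∨ X = T
  comm : ∀ g : G, MulAut.conj g • T = T ∨ ∀ x ∈ T, ∀ y ∈ MulAut.conj g • T, x * y = y * x
  span : (⨆ g : G, (MulAut.conj g • T : Subgroup G)) = N

theorem cj_normal_le {N T : Subgroup G} [hN : N.Normal] (h : T ≤ N) (g : G) : MulAut.conj g • T ≤ N := by
  intro x hx
  rw [mem_cj] at hx
  have := hN.conj_mem _ (h hx) g
  have e : g * (g⁻¹ * x * g) * g⁻¹ = x := by group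
  rwa [e] at this

theorem exists_fac [Finite G] (N : Subgroup G) [hNn : N.Normal] (hN : N ≠ ⊥)
    (hmin : ∀ M : Subgroup G, M.Normal → M ≤ N → M = ⊥ ∨ M = N) : ∃ T : Subgroup G, Fac N T := by
  obtain ⟨T, hT1, hT2, hT3, hT4⟩ := CfsgH1.exists_min_invariant_le (B := N) (K := N) Subgroup.le_normalizer hN
  have hnorm : ∀ n ∈ N, ∀ t ∈ T, n * t * n⁻¹ ∈ T := fun n hn t ht =>
    (Subgroup.mem_normalizer_iff.1 (hT1 hn) t).1 ht
  have hcjnorm : ∀ g : G, ∀ n ∈ N, ∀ t ∈ MulAut.conj g • T, n * t * n⁻¹ ∈ MulAut.conj g • T := by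
    intro g n hn t ht
    rw [mem_cj] at ht ⊢
    have h1 := hnorm (g⁻¹ * n * g) (by
      have := hNn.conj_mem n hn g⁻¹
      rwa [inv_inv] at this) _ ht
    have e : g⁻¹ * n * g * (g⁻¹ * t * g) * (g⁻¹ * n * g)⁻¹ = g⁻¹ * (n * t * n⁻¹) * g := by group
    rwa [e] at h1
  have hlec : ∀ X : Subgroup G, (∀ n ∈ N, ∀ t ∈ X, n * t * n⁻¹ ∈ X) → N ≤ Subgroup.normalizer (X : Set G) := by
    intro X hX n hn
    rw [Subgroup.mem_normalizer_iff]
    intro t
    refine ⟨fun ht => hX n hn t ht, fun ht => ?_⟩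
    have := hX n⁻¹ (N.inv_mem hn) _ ht
    have e : n⁻¹ * (n * t * n⁻¹) * n⁻¹⁻¹ = t := by group
    rwa [e] at this
  refine ⟨T, hT2, hT3, hnorm, ?_, ?_, ?_⟩
  · intro X hXT hX
    exact hT4 X (hlec X hX) hXT
  · intro g
    have hcard : Nat.card (MulAut.conj g • T : Subgroup G) = Nat.card T :=
      (Nat.card_congr (Subgroup.equivSMul (MulAut.conj g) T).toEquiv).symm
    rcases hT4 (T ⊓ MulAut.conj g • T) (hlec _ (fun n hn t ht => ⟨hnorm n hn t ht.1, hcjnorm g n hn t ht.2⟩))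
      inf_le_left with h | h
    · right
      intro x hx y hy
      have h1 : x * y * x⁻¹ * y⁻¹ ∈ T ⊓ MulAut.conj g • T := by
        refine ⟨?_, ?_⟩
        · have e : x * y * x⁻¹ * y⁻¹ = x * (y * x⁻¹ * y⁻¹) := by group
          rw [e]
          exact T.mul_mem hx (hnorm y (cj_normal_le hT2 g hy) _ (T.inv_mem hx))
        · exact Subgroup.mul_mem _ (hcjnorm g x (hT2 hx) y hy) (Subgroup.inv_mem _ hy)
      rw [h, Subgroup.mem_bot] at h1
      have h2 : x * y = y * x := by
        have := mul_inv_eq_one.1 h1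
        have h3 := mul_inv_eq_iff_eq_mul.1 this
        exact h3
      exact h2
    · left
      have h1 : T ≤ MulAut.conj g • T := inf_eq_left.1 h
      exact (Subgroup.eq_of_le_of_card_ge h1 hcard.le).symm
  · have hle : (⨆ g : G, MulAut.conj g • T) ≤ N := iSup_le (fun g => cj_normal_le hT2 g)
    have hTle : T ≤ ⨆ g : G, MulAut.conj g • T := by
      have := le_iSup (fun g : G => MulAut.conj g • T) 1
      rwa [cj_one] at this
    rcases hmin _ (by
      constructor
      intro y hy x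
      refine Subgroup.iSup_induction (fun g : G => (MulAut.conj g • T : Subgroup G))
        (C := fun y => x * y * x⁻¹ ∈ ⨆ g : G, (MulAut.conj g • T : Subgroup G)) hy ?_ ?_ ?_
      · intro g y hy
        refine le_iSup (fun g : G => (MulAut.conj g • T : Subgroup G)) (x * g) ?_
        beta_reduce
        rw [cj_mul]
        exact cj_mem x hy
      · rw [mul_one, mul_inv_cancel]; exact Subgroup.one_mem _
      · intro a b ha hb
        have e : x * (a * b) * x⁻¹ = (x * a * x⁻¹) * (x * b * x⁻¹) := by group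
        rw [e]; exact Subgroup.mul_mem _ ha hb) hle with h | h
    · exact absurd (eq_bot_iff.2 (hTle.trans h.le)) hT3
    · exact h

namespace Fac
variable {N T : Subgroup G}

theorem comm2 (h : Fac N T) (g k : G) : MulAut.conj g • T = MulAut.conj k • T ∨
    ∀ x ∈ MulAut.conj g • T, ∀ y ∈ MulAut.conj k • T, x * y = y * x := by
  rcases h.comm (g⁻¹ * k) with h1 | h1
  · left
    rw [cj_mul] at h1
    have := congrArg (fun X : Subgroup G => MulAut.conj g • X) h1
    beta_reduce at this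
    rw [← cj_mul, mul_inv_cancel, cj_one] at this
    exact this.symm
  · right
    intro x hx y hy
    have h2 := h1 (g⁻¹ * x * g) (mem_cj.1 hx) (g⁻¹ * y * g) (by
      rw [cj_mul, mem_cj]
      have e : g⁻¹⁻¹ * (g⁻¹ * y * g) * g⁻¹ = y := by group
      rw [e]; exact hy)
    have e1 : g * (g⁻¹ * x * g * (g⁻¹ * y * g)) * g⁻¹ = x * y := by group
    have e2 : g * (g⁻¹ * y * g * (g⁻¹ * x * g)) * g⁻¹ = y * x := by group
    rw [← e1, ← e2, h2]

theorem cj (h : Fac N T) [hNn : N.Normal] (g : G) : Fac N (MulAut.conj g • T) := by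
  refine ⟨cj_normal_le h.le g, ?_, ?_, ?_, ?_, ?_⟩
  · intro h1
    apply h.ne
    rw [eq_bot_iff]
    intro x hx
    have h2 := cj_mem g hx
    rw [h1, Subgroup.mem_bot] at h2
    rw [Subgroup.mem_bot]
    have e : g⁻¹ * (g * x * g⁻¹) * g = x := by group
    rw [← e, h2]; group
  · intro n hn t ht
    rw [mem_cj] at ht ⊢
    have h1 := h.norm (g⁻¹ * n * g) (by
      have := hNn.conj_mem n hn g⁻¹
      rwa [inv_inv] at this) _ ht
    have e : g⁻¹ * n * g * (g⁻¹ * t * g) * (g⁻¹ * n * g)⁻¹ = g⁻¹ * (n * t * n⁻¹) * g := by group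
    rwa [e] at h1
  · intro X hX hXN
    rcases h.min (MulAut.conj g⁻¹ • X) (by
      intro x hx
      rw [mem_cj] at hx
      have := hX hx
      rw [mem_cj] at this
      have e : g⁻¹ * (g⁻¹⁻¹ * x * g⁻¹) * g = x := by group
      rwa [e] at this) (by
      intro n hn t ht
      rw [mem_cj] at ht ⊢
      have h1 := hXN (g * n * g⁻¹) (hNn.conj_mem n hn g) _ ht
      have e : g * n * g⁻¹ * (g⁻¹⁻¹ * t * g⁻¹) * (g * n * g⁻¹)⁻¹ = g⁻¹⁻¹ * (n * t * n⁻¹) * g⁻¹ := by group
      rwa [e] at h1) with h1 | h1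
    · left
      rw [eq_bot_iff]
      intro x hx
      have h2 := cj_mem g⁻¹ hx
      rw [h1, Subgroup.mem_bot] at h2
      rw [Subgroup.mem_bot]
      have e : g * (g⁻¹ * x * g⁻¹⁻¹) * g⁻¹ = x := by group
      rw [← e, h2]; group
    · right
      rw [← h1, ← cj_mul, mul_inv_cancel, cj_one]
  · intro k
    rcases h.comm2 g (k * g) with h1 | h1
    · left; rw [← cj_mul, ← h1]
    · right; rw [← cj_mul]; exact h1
  · rw [← h.span]
    apply le_antisymm
    · apply iSup_le; intro k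
      rw [← cj_mul]
      exact le_iSup (fun g : G => MulAut.conj g • T) (k * g)
    · apply iSup_le; intro k
      have := le_iSup (fun x : G => MulAut.conj x • MulAut.conj g • T) (k * g⁻¹)
      rw [← cj_mul] at this
      have e : k * g⁻¹ * g = k := by group
      rwa [e] at this

/-- complement part -/
def C (N T : Subgroup G) : Subgroup G := N ⊓ Subgroup.centralizer (T : Set G)

theorem mem_C {x : G} : x ∈ C N T ↔ x ∈ N ∧ ∀ t ∈ T, t * x = x * t :=
  Iff.and Iff.rfl Subgroup.mem_centralizer_iff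

theorem C_norm (h : Fac N T) {n x : G} (hn : n ∈ N) (hx : x ∈ C N T) : n * x * n⁻¹ ∈ C N T := by
  rw [mem_C] at hx ⊢
  refine ⟨N.mul_mem (N.mul_mem hn hx.1) (N.inv_mem hn), fun t ht => ?_⟩
  have h1 := hx.2 (n⁻¹ * t * n) (by
    have := h.norm n⁻¹ (N.inv_mem hn) t ht
    rwa [inv_inv] at this)
  have e1 : n * (n⁻¹ * t * n * x) * n⁻¹ = t * (n * x * n⁻¹) := by group
  have e2 : n * (x * (n⁻¹ * t * n)) * n⁻¹ = n * x * n⁻¹ * t := by group
  rw [← e1, h1, e2]

theorem cj_le_C (h : Fac N T) [hNn : N.Normal] {g : G} (hg : MulAut.conj g • T ≠ T) : MulAut.conj g • T ≤ C N T := by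
  intro x hx
  rw [mem_C]
  refine ⟨cj_normal_le h.le g hx, fun t ht => ?_⟩
  rcases h.comm g with h1 | h1
  · exact absurd h1 hg
  · exact h1 t ht x hx

theorem sup_C (h : Fac N T) [hNn : N.Normal] : T ⊔ C N T = N := by
  apply le_antisymm (sup_le h.le inf_le_left)
  conv_lhs => rw [← h.span]
  apply iSup_le
  intro g
  by_cases hg : MulAut.conj g • T = T
  · rw [hg]; exact le_sup_left
  · exact (h.cj_le_C hg).trans le_sup_right

/-- every element of N is a product -/
theorem exists_mul (h : Fac N T) [hNn : N.Normal] {n : G} (hn : n ∈ N) : ∃ t ∈ T, ∃ c ∈ C N T, n = t * c := by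
  let S : Subgroup G :=
    { carrier := {n | ∃ t ∈ T, ∃ c ∈ C N T, n = t * c}
      one_mem' := ⟨1, T.one_mem, 1, (C N T).one_mem, by rw [mul_one]⟩
      mul_mem' := by
        rintro _ _ ⟨t, ht, c, hc, rfl⟩ ⟨t', ht', c', hc', rfl⟩
        refine ⟨t * t', T.mul_mem ht ht', c * c', (C N T).mul_mem hc hc', ?_⟩
        have := (mem_C.1 hc).2 t' ht'
        rw [mul_assoc, mul_assoc, ← mul_assoc c, ← this]
        simp only [mul_assoc]
      inv_mem' := by
        rintro _ ⟨t, ht, c, hc, rfl⟩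
        refine ⟨t⁻¹, T.inv_mem ht, c⁻¹, (C N T).inv_mem hc, ?_⟩
        have := (mem_C.1 hc).2 t ht
        rw [this, mul_inv_rev] }
  have h1 : T ⊔ C N T ≤ S := sup_le (fun t ht => ⟨t, ht, 1, (C N T).one_mem, by rw [mul_one]⟩)
    (fun c hc => ⟨1, T.one_mem, c, hc, by rw [one_mul]⟩)
  rw [h.sup_C] at h1
  exact h1 hn

variable (hnab : ¬ ∀ x ∈ N, ∀ y ∈ N, x * y = y * x)
include hnab in
theorem center (h : Fac N T) [hNn : N.Normal] {z : G} (hz : z ∈ T) (hzc : ∀ x ∈ T, x * z = z * x) : z = 1 := by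
  have h1 : T ⊓ Subgroup.centralizer (T : Set G) = ⊥ ∨ T ⊓ Subgroup.centralizer (T : Set G) = T := by
    apply h.min _ inf_le_left
    intro n hn t ht
    have ht2 := Subgroup.mem_centralizer_iff.1 ht.2
    refine ⟨h.norm n hn t ht.1, ?_⟩
    apply Subgroup.mem_centralizer_iff.2
    intro x hx
    have h1 := ht2 (n⁻¹ * x * n) (by
      have := h.norm n⁻¹ (N.inv_mem hn) x hx
      rwa [inv_inv] at this)
    have e1 : n * (n⁻¹ * x * n * t) * n⁻¹ = x * (n * t * n⁻¹) := by group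
    have e2 : n * (t * (n⁻¹ * x * n)) * n⁻¹ = n * t * n⁻¹ * x := by group
    rw [← e1, h1, e2]
  rcases h1 with h1 | h1
  · have : z ∈ T ⊓ Subgroup.centralizer (T : Set G) := ⟨hz, Subgroup.mem_centralizer_iff.2 hzc⟩
    rw [h1] at this
    exact (Subgroup.mem_bot).1 this
  · exfalso
    apply hnab
    -- T abelian
    have hTab : ∀ x ∈ T, ∀ y ∈ T, x * y = y * x := by
      intro x hx y hy
      rw [← h1] at hy
      exact Subgroup.mem_centralizer_iff.1 hy.2 x hx
    have hcj : ∀ g : G, ∀ x ∈ MulAut.conj g • T, ∀ y ∈ MulAut.conj g • T, x * y = y * x := by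
      intro g x hx y hy
      have h2 := hTab _ (mem_cj.1 hx) _ (mem_cj.1 hy)
      have e1 : g * (g⁻¹ * x * g * (g⁻¹ * y * g)) * g⁻¹ = x * y := by group
      have e2 : g * (g⁻¹ * y * g * (g⁻¹ * x * g)) * g⁻¹ = y * x := by group
      rw [← e1, ← e2, h2]
    have hall : ∀ g k : G, ∀ x ∈ MulAut.conj g • T, ∀ y ∈ MulAut.conj k • T, x * y = y * x := by
      intro g k
      rcases h.comm2 g k with h2 | h2
      · rw [← h2]; exact hcj g
      · exact h2
    have hN1 : ∀ g : G, N ≤ Subgroup.centralizer ((MulAut.conj g • T : Subgroup G) : Set G) := by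
      intro g
      conv_lhs => rw [← h.span]
      apply iSup_le
      intro k y hy
      exact Subgroup.mem_centralizer_iff.2 (fun x hx => hall g k x hx y hy)
    have hN2 : N ≤ Subgroup.centralizer (N : Set G) := by
      conv_lhs => rw [← h.span]
      apply iSup_le
      intro k y hy
      exact Subgroup.mem_centralizer_iff.2 (fun x hx => (Subgroup.mem_centralizer_iff.1 (hN1 k hx) y hy).symm)
    intro x hx y hy
    exact Subgroup.mem_centralizer_iff.1 (hN2 hy) x hx

include hnab in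
theorem T_inf_C (h : Fac N T) [hNn : N.Normal] {z : G} (hz : z ∈ T) (hzc : z ∈ C N T) : z = 1 :=
  h.center hnab hz (mem_C.1 hzc).2

include hnab in
theorem simple (h : Fac N T) [hNn : N.Normal] : IsSimpleGroup T := by
  haveI : Nontrivial T := (Subgroup.nontrivial_iff_ne_bot T).2 h.ne
  refine ⟨fun X hX => ?_⟩
  rcases h.min (X.map T.subtype) (Subgroup.map_subtype_le X) (by
    intro n hn t ht
    obtain ⟨x, hx, rfl⟩ := ht
    obtain ⟨t', ht', c, hc, rfl⟩ := h.exists_mul hn
    refine ⟨⟨t', ht'⟩ * x * ⟨t', ht'⟩⁻¹, hX.conj_mem x hx _, ?_⟩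
    change t' * x.1 * t'⁻¹ = t' * c * x.1 * (t' * c)⁻¹
    have h1 := (mem_C.1 hc).2 x.1 x.2
    rw [mul_assoc t' c, ← h1]; group) with h1 | h1
  · left
    exact (Subgroup.map_eq_bot_iff_of_injective X T.subtype_injective).1 h1
  · right
    apply Subgroup.map_injective T.subtype_injective
    rw [h1, ← MonoidHom.range_eq_map, Subgroup.range_subtype]

include hnab in
theorem not_comm (h : Fac N T) [hNn : N.Normal] : ¬ IsMulCommutative T := by
  intro hc
  obtain ⟨z, hz1⟩ := Subgroup.ne_bot_iff_exists_ne_one.1 h.ne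
  apply hz1
  apply Subtype.ext
  apply h.center hnab z.2
  intro x hx
  exact congrArg Subtype.val (hc.is_comm.comm (⟨x, hx⟩ : T) z)

end Fac

end CfsgL.ONS
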