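import Cfsg.Agent.L.PermG.ONS
/-!
Derangements in primitive groups with a nonabelian minimal normal subgroup.
-/
set_option autoImplicit false
set_option maxHeartbeats 400000
namespace CfsgL.ONS
open Subgroup
open scoped Pointwise commutatorElement

theorem exists_not_conj {X : Type*} [Group X] [Finite X] {W : Subgroup X} (hW : W ≠ ⊤) :
    ∃ n : X, ∀ x : X, x * n * x⁻¹ ∉ W := by
  classical
  by_contra hcon
  push Not at hcon
  haveI := Fintype.ofFinite X
  haveI : Fintype (MulAction.orbitRel.Quotient X (X ⧸ W)) := Fintype.ofFinite _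
  haveI : Fintype (X ⧸ W) := Fintype.ofFinite _
  have h1 := MulAction.sum_card_fixedBy_eq_card_orbits_mul_card_group X (X ⧸ W)
  have h2 : Fintype.card (MulAction.orbitRel.Quotient X (X ⧸ W)) = 1 := by
    rw [Fintype.card_eq_one_iff_nonempty_unique]
    exact (MulAction.pretransitive_iff_unique_quotient_of_nonempty X (X ⧸ W)).1 inferInstance
  rw [h2, one_mul] at h1
  have h3 : ∀ n : X, 1 ≤ Fintype.card (MulAction.fixedBy (X ⧸ W) n) := by
    intro n
    obtain ⟨x, hx⟩ := hcon n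
    rw [Nat.succ_le_iff, Fintype.card_pos_iff]
    refine ⟨⟨((x⁻¹ : X) : X ⧸ W), ?_⟩⟩
    rw [MulAction.mem_fixedBy, MulAction.Quotient.smul_coe, QuotientGroup.eq, smul_eq_mul]
    have e : (n * x⁻¹)⁻¹ * x⁻¹ = (x * n * x⁻¹)⁻¹ := by group
    rw [e]; exact W.inv_mem hx
  have h4 : 2 ≤ Fintype.card (MulAction.fixedBy (X ⧸ W) (1 : X)) := by
    have h5 : Fintype.card (MulAction.fixedBy (X ⧸ W) (1 : X)) = Fintype.card (X ⧸ W) := by
      apply Fintype.card_congr
      refine ⟨fun y => y.1, fun y => ⟨y, one_smul _ _⟩, fun y => rfl, fun y => rfl⟩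
    rw [h5, ← Nat.card_eq_fintype_card]
    have h6 : W.index ≠ 1 := fun h => hW (Subgroup.index_eq_one.1 h)
    have h7 : W.index ≠ 0 := Subgroup.index_ne_zero_of_finite
    change 2 ≤ W.index
    omega
  rw [← Finset.add_sum_erase _ _ (Finset.mem_univ (1 : X))] at h1
  have h5 : ∑ x ∈ Finset.univ.erase (1 : X), 1 ≤ ∑ x ∈ Finset.univ.erase (1 : X), Fintype.card (MulAction.fixedBy (X ⧸ W) x) :=
    Finset.sum_le_sum (fun x _ => h3 x)
  rw [Finset.sum_const, Finset.card_erase_of_mem (Finset.mem_univ _), Finset.card_univ, smul_eq_mul, mul_one] at h5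
  have h6 : 0 < Fintype.card X := Fintype.card_pos
  omega

variable {G : Type*} [Group G] [Finite G]

section
variable {U N T : Subgroup G} (hU : IsCoatom U) (hcore : U.normalCore = ⊥) [hNn : N.Normal]
  (hN : N ≠ ⊥) (hnab : ¬ ∀ x ∈ N, ∀ y ∈ N, x * y = y * x) (h : Fac N T)

include hU hcore hN in
omit [Finite G] in
theorem exists_un (g : G) : ∃ u ∈ U, ∃ n ∈ N, g = u * n := by
  have h1 := CfsgH1.cf_sup hU hcore hN
  have hx : g⁻¹ ∈ N ⊔ U := by rw [h1]; trivial
  obtain ⟨n, hn, u, hu, he⟩ := Subgroup.mem_sup_of_normal_left.1 hx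
  exact ⟨u⁻¹, U.inv_mem hu, n⁻¹, N.inv_mem hn, by rw [← mul_inv_rev, he, inv_inv]⟩

include hU hcore hN h in
omit [Finite G] in
/-- if T ∩ U = 1, all nonidentity elements of T are derangements -/
theorem semireg (hTU : T ⊓ U = ⊥) {t : G} (ht : t ∈ T) (ht1 : t ≠ 1) (g : G) : g * t * g⁻¹ ∉ U := by
  intro hg
  obtain ⟨u, hu, n, hn, rfl⟩ := exists_un hU hcore hN g
  have h1 : n * t * n⁻¹ ∈ T ⊓ U := by
    refine ⟨h.norm n hn t ht, ?_⟩
    have := U.mul_mem (U.mul_mem (U.inv_mem hu) hg) hu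
    have e : u⁻¹ * (u * n * t * (u * n)⁻¹) * u = n * t * n⁻¹ := by group
    rwa [e] at this
  rw [hTU, Subgroup.mem_bot] at h1
  apply ht1
  have e : n⁻¹ * (n * t * n⁻¹) * n = t := by group
  rw [← e, h1]; group

include hU hcore hN h in
omit [Finite G] in
theorem not_le_U : ¬ T ≤ U := by
  intro hTU
  have h1 : N ≤ U := by
    conv_lhs => rw [← h.span]
    apply iSup_le
    intro g x hx
    rw [mem_cj] at hx
    obtain ⟨u, hu, n, hn, rfl⟩ := exists_un hU hcore hN g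
    have h2 := h.norm n hn _ hx
    have h3 := U.mul_mem (U.mul_mem hu (hTU h2)) (U.inv_mem hu)
    have e : u * (n * ((u * n)⁻¹ * x * (u * n)) * n⁻¹) * u⁻¹ = x := by group
    rwa [e] at h3
  apply hN
  rw [eq_bot_iff, ← hcore]
  exact Subgroup.normal_le_normalCore.2 h1

include hU hcore hN h in
omit [Finite G] in
theorem cent_bot (hTU : T ⊓ U ≠ ⊥) : Subgroup.centralizer (N : Set G) = ⊥ := by
  by_contra hcon
  haveI : (Subgroup.centralizer (N : Set G)).Normal := inferInstance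
  have h1 := CfsgH1.cf_centralizer_inf hU hcore hcon
  apply hTU
  rw [eq_bot_iff, ← h1]
  refine inf_le_inf ?_ le_rfl
  refine h.le.trans ?_
  rw [Subgroup.le_centralizer_iff]

include hU hcore hN hnab h in
theorem exists_strong (hTU : T ⊓ U ≠ ⊥) : ∃ t ∈ T, ∀ c ∈ Fac.C N T, ∀ g : G, g * (t * c) * g⁻¹ ∉ U := by
  let C' : Subgroup N := (Fac.C N T).subgroupOf N
  haveI hC'n : C'.Normal := by
    constructor
    intro x hx n
    rw [Subgroup.mem_subgroupOf] at hx ⊢
    exact h.C_norm n.2 hx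
  let W : Subgroup N := U.subgroupOf N ⊔ C'
  have hWm : ∀ {x : N}, x ∈ W → ∃ u : N, (u : G) ∈ U ∧ ∃ c : N, (c : G) ∈ Fac.C N T ∧ x = u * c := by
    intro x hx
    obtain ⟨u, hu, c, hc, he⟩ := Subgroup.mem_sup_of_normal_right.1 hx
    exact ⟨u, hu, c, hc, he.symm⟩
  have hW : W ≠ ⊤ := by
    intro htop
    rcases h.min (T ⊓ U) inf_le_left (by
      intro n hn t ht
      refine ⟨h.norm n hn t ht.1, ?_⟩
      have hnW : (⟨n, hn⟩ : N) ∈ W := by rw [htop]; trivial
      obtain ⟨u, hu, c, hc, he⟩ := hWm hnW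
      have he' : n = u * c := congrArg Subtype.val he
      have hct := (Fac.mem_C.1 hc).2 t ht.1
      have e : n * t * n⁻¹ = u * t * (u : G)⁻¹ := by
        rw [he', mul_assoc (u : G) (c : G) t, ← hct]; group
      rw [e]
      exact U.mul_mem (U.mul_mem hu ht.2) (U.inv_mem hu)) with h1 | h1
    · exact hTU h1
    · exact not_le_U hU hcore hN h (inf_eq_left.1 h1)
  obtain ⟨n, hn⟩ := exists_not_conj hW
  obtain ⟨t, ht, c, hc, he⟩ := h.exists_mul n.2
  refine ⟨t, ht, fun c' hc' g hg => ?_⟩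
  obtain ⟨u, hu, n', hn', rfl⟩ := exists_un hU hcore hN g
  have h1 : n' * (t * c') * n'⁻¹ ∈ U := by
    have := U.mul_mem (U.mul_mem (U.inv_mem hu) hg) hu
    have e : u⁻¹ * (u * n' * (t * c') * (u * n')⁻¹) * u = n' * (t * c') * n'⁻¹ := by group
    rwa [e] at this
  apply hn ⟨n', hn'⟩
  have h2 : (⟨n', hn'⟩ * n * ⟨n', hn'⟩⁻¹ : N) =
      (⟨n', hn'⟩ * (⟨t, h.le ht⟩ * ⟨c', (Fac.mem_C.1 hc').1⟩) * ⟨n', hn'⟩⁻¹) *
        (⟨n', hn'⟩ * (⟨c', (Fac.mem_C.1 hc').1⟩⁻¹ * ⟨c, (Fac.mem_C.1 hc).1⟩) * ⟨n', hn'⟩⁻¹) := by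
    apply Subtype.ext
    change n' * n.1 * n'⁻¹ = n' * (t * c') * n'⁻¹ * (n' * (c'⁻¹ * c) * n'⁻¹)
    rw [he]; group
  rw [h2]
  apply W.mul_mem
  · exact (le_sup_left : U.subgroupOf N ≤ W) h1
  · refine (le_sup_right : C' ≤ W) (hC'n.conj_mem _ ?_ _)
    exact (Fac.C N T).mul_mem ((Fac.C N T).inv_mem hc') hc

include hnab h in
theorem exists_not_p {p : ℕ} (hp : p.Prime) : ∃ t ∈ T, ¬ ∃ k : ℕ, orderOf t = p ^ k := by
  by_contra hcon
  push Not at hcon
  haveI : Fact p.Prime := ⟨hp⟩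
  have h1 : IsPGroup p T := by
    rw [IsPGroup.iff_orderOf]
    intro t
    rw [← Subgroup.orderOf_coe]
    exact hcon t t.2
  haveI : Nontrivial T := (Subgroup.nontrivial_iff_ne_bot T).2 h.ne
  have h2 := h1.center_nontrivial
  obtain ⟨z, hz1⟩ := exists_ne (1 : Subgroup.center T)
  apply hz1
  apply Subtype.ext
  apply Subtype.ext
  apply h.center hnab z.1.2
  intro x hx
  exact congrArg Subtype.val (Subgroup.mem_center_iff.1 z.2 ⟨x, hx⟩)

include hU hcore hN hnab h in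
theorem main3556 {p : ℕ} (hp : p.Prime) (hder : ∀ g : G, (∀ x : G, x * g * x⁻¹ ∉ U) → ∃ k : ℕ, orderOf g = p ^ k) :
    T = N ∧ Subgroup.centralizer (N : Set G) = ⊥ := by
  by_cases hTU : T ⊓ U = ⊥
  · exfalso
    obtain ⟨t, ht, htp⟩ := exists_not_p hnab h hp
    apply htp
    by_cases ht1 : t = 1
    · exact ⟨0, by rw [ht1, orderOf_one, pow_zero]⟩
    · exact hder t (semireg hU hcore hN h hTU ht ht1)
  · refine ⟨?_, cent_bot hU hcore hN h hTU⟩
    by_contra hTN
    -- another conjugate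
    have hex : ∃ g : G, MulAut.conj g • T ≠ T := by
      by_contra hcon
      push Not at hcon
      apply hTN
      rw [← h.span]
      apply le_antisymm
      · have := le_iSup (fun g : G => (MulAut.conj g • T : Subgroup G)) 1
        rwa [cj_one] at this
      · exact iSup_le (fun g => (hcon g).le)
    obtain ⟨g0, hg0⟩ := hex
    obtain ⟨t, ht, hst⟩ := exists_strong hU hcore hN hnab h hTU
    obtain ⟨c, hc, hcp⟩ := exists_not_p hnab (h.cj g0) hp
    have hcC := h.cj_le_C hg0 hc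
    obtain ⟨k, hk⟩ := hder (t * c) (hst c hcC)
    obtain ⟨j, hj⟩ := hder t (by
      intro x
      have := hst 1 (Fac.C N T).one_mem x
      rwa [mul_one] at this)
    have hcomm : Commute t c := (Fac.mem_C.1 hcC).2 t ht
    apply hcp
    have h1 : c ^ (p ^ (k + j)) = 1 := by
      have h2 : (t * c) ^ (p ^ (k + j)) = 1 := by
        rw [pow_add, pow_mul, ← hk, pow_orderOf_eq_one, one_pow]
      have h3 : t ^ (p ^ (k + j)) = 1 := by
        rw [add_comm, pow_add, pow_mul, ← hj, pow_orderOf_eq_one, one_pow]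
      rw [hcomm.mul_pow, h3, one_mul] at h2
      exact h2
    obtain ⟨m, -, hm⟩ := (Nat.dvd_prime_pow hp).1 (orderOf_dvd_of_pow_eq_one h1)
    exact ⟨m, hm⟩

end

/-- the standing facts about a primitive group, from a faithful primitive action -/
theorem prim_data {Ω : Type*} [MulAction G Ω] [FaithfulSMul G Ω] [Finite Ω]
    (hprim : MulAction.IsPreprimitive G Ω) (hΩ : 2 ≤ Nat.card Ω) (α : Ω) :
    IsCoatom (MulAction.stabilizer G α) ∧ (MulAction.stabilizer G α).normalCore = ⊥ := by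
  haveI : Nontrivial Ω := Finite.one_lt_card_iff_nontrivial.1 hΩ
  refine ⟨MulAction.IsPreprimitive.isCoatom_stabilizer_of_isPreprimitive G α, ?_⟩
  rw [eq_bot_iff]
  intro g hg
  rw [Subgroup.mem_bot]
  apply FaithfulSMul.eq_of_smul_eq_smul (α := Ω)
  intro ω
  obtain ⟨x, rfl⟩ := MulAction.exists_smul_eq G α ω
  have h1 := hg x⁻¹
  rw [MulAction.mem_stabilizer_iff, inv_inv, mul_smul, mul_smul, inv_smul_eq_iff] at h1
  rw [one_smul]; exact h1

theorem derange_iff {Ω : Type*} [MulAction G Ω] [MulAction.IsPretransitive G Ω] (α : Ω) (g : G) :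
    (∀ ω : Ω, g • ω ≠ ω) ↔ ∀ x : G, x * g * x⁻¹ ∉ MulAction.stabilizer G α := by
  constructor
  · intro h x hx
    rw [MulAction.mem_stabilizer_iff, mul_smul, mul_smul] at hx
    apply h (x⁻¹ • α)
    exact (eq_inv_smul_iff).2 hx
  · intro h ω hω
    obtain ⟨x, rfl⟩ := MulAction.exists_smul_eq G α ω
    apply h x⁻¹
    rw [MulAction.mem_stabilizer_iff, inv_inv, mul_smul, mul_smul, inv_smul_eq_iff]
    exact hω

theorem affine_trans {Ω : Type*} [MulAction G Ω] [MulAction.IsPretransitive G Ω] (α : Ω) {N : Subgroup G} [hNn : N.Normal]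
    (hU : IsCoatom (MulAction.stabilizer G α)) (hcore : (MulAction.stabilizer G α).normalCore = ⊥) (hN : N ≠ ⊥) :
    MulAction.IsPretransitive N Ω := by
  constructor
  intro x y
  obtain ⟨g, rfl⟩ := MulAction.exists_smul_eq G α x
  obtain ⟨k, rfl⟩ := MulAction.exists_smul_eq G α y
  obtain ⟨u, hu, n, hn, he⟩ := exists_un hU hcore hN (g⁻¹)
  obtain ⟨v, hv, m, hm, he'⟩ := exists_un hU hcore hN (k⁻¹)
  have hg : g • α = n⁻¹ • α := by
    have : g = n⁻¹ * u⁻¹ := by rw [← mul_inv_rev, ← he, inv_inv]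
    rw [this, mul_smul, (show u⁻¹ • α = α from (MulAction.stabilizer G α).inv_mem hu)]
  have hk : k • α = m⁻¹ • α := by
    have : k = m⁻¹ * v⁻¹ := by rw [← mul_inv_rev, ← he', inv_inv]
    rw [this, mul_smul, (show v⁻¹ • α = α from (MulAction.stabilizer G α).inv_mem hv)]
  refine ⟨⟨m⁻¹ * n, N.mul_mem (N.inv_mem hm) hn⟩, ?_⟩
  change (m⁻¹ * n) • (g • α) = k • α
  rw [hg, hk, ← mul_smul, mul_assoc, mul_inv_cancel, mul_one]

theorem affine_stab {Ω : Type*} [MulAction G Ω] [MulAction.IsPretransitive G Ω] (α : Ω) {N : Subgroup G} [hNn : N.Normal]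
    (hNU : N ⊓ MulAction.stabilizer G α = ⊥) (a : Ω) : MulAction.stabilizer N a = ⊥ := by
  rw [eq_bot_iff]
  intro n hn
  obtain ⟨g, rfl⟩ := MulAction.exists_smul_eq G α a
  have h1 : (n : G) • g • α = g • α := hn
  have h2 : g⁻¹ * n * g ∈ N ⊓ MulAction.stabilizer G α := by
    refine ⟨?_, ?_⟩
    · have := hNn.conj_mem n n.2 g⁻¹
      rwa [inv_inv] at this
    · change (g⁻¹ * (n : G) * g) • α = α
      rw [mul_smul, mul_smul, h1, inv_smul_smul]
  rw [hNU, Subgroup.mem_bot] at h2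
  rw [Subgroup.mem_bot]
  apply Subtype.ext
  have e : g * (g⁻¹ * n * g) * g⁻¹ = n := by group
  rw [← e, h2]; simp

end CfsgL.ONS
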