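import Cfsg.Agent.L.PermG.ONS2
import Cfsg.Agent.S0144
/-!
Primitive groups with few classes of derangements.
-/
set_option autoImplicit false
set_option maxHeartbeats 400000
namespace CfsgL.ONS
open Subgroup
open scoped Pointwise commutatorElement

variable {G : Type*} [Group G] [Finite G]

theorem three_primes {T : Type*} [Group T] [Finite T] [hs : IsSimpleGroup T] (hc : ¬ IsMulCommutative T) :
    ∃ p q r : ℕ, p.Prime ∧ q.Prime ∧ r.Prime ∧ p ∣ Nat.card T ∧ q ∣ Nat.card T ∧ r ∣ Nat.card T ∧ p ≠ q ∧ p ≠ r ∧ q ≠ r := by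
  classical
  by_cases h : 2 < (Nat.card T).primeFactors.card
  · obtain ⟨p, q, r, hp, hq, hr, h1, h2, h3⟩ := Finset.two_lt_card_iff.1 h
    exact ⟨p, q, r, Nat.prime_of_mem_primeFactors hp, Nat.prime_of_mem_primeFactors hq, Nat.prime_of_mem_primeFactors hr,
      Nat.dvd_of_mem_primeFactors hp, Nat.dvd_of_mem_primeFactors hq, Nat.dvd_of_mem_primeFactors hr, h1, h2, h3⟩
  · exfalso
    apply hc
    have hT0 : Nat.card T ≠ 0 := Nat.card_pos.ne'
    have hT1 : Nat.card T ≠ 1 := by
      have := Finite.one_lt_card_iff_nontrivial.2 hs.toNontrivial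
      omega
    obtain ⟨p, hp, hpd⟩ := Nat.exists_prime_and_dvd hT1
    have hpm : p ∈ (Nat.card T).primeFactors := Nat.mem_primeFactors.2 ⟨hp, hpd, hT0⟩
    have hprod := Nat.factorization_prod_pow_eq_self hT0
    have hsolv : Group.IsSolvable T := by
      by_cases hq : ∃ q ∈ (Nat.card T).primeFactors, q ≠ p
      · obtain ⟨q, hqm, hqp⟩ := hq
        have h1 : (Nat.card T).primeFactors = {p, q} := by
          symm
          apply Finset.eq_of_subset_of_card_le
          · intro x hx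
            rw [Finset.mem_insert, Finset.mem_singleton] at hx
            rcases hx with rfl | rfl
            · exact hpm
            · exact hqm
          · rw [Finset.card_pair (Ne.symm hqp)]; omega
        apply Cfsg.Agent.S0144.result p q ((Nat.card T).factorization p) ((Nat.card T).factorization q) hp
          (Nat.prime_of_mem_primeFactors hqm)
        conv_lhs => rw [← hprod]
        rw [Finsupp.prod, Nat.support_factorization, h1, Finset.prod_pair (Ne.symm hqp)]
      · push Not at hq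
        have h1 : (Nat.card T).primeFactors = {p} := by
          ext x
          rw [Finset.mem_singleton]
          exact ⟨fun hx => hq x hx, fun hx => hx ▸ hpm⟩
        apply Cfsg.Agent.S0144.result p p ((Nat.card T).factorization p) 0 hp hp
        conv_lhs => rw [← hprod]
        rw [Finsupp.prod, Nat.support_factorization, h1, Finset.prod_singleton, pow_zero, mul_one]
    have h2 := IsSimpleGroup.comm_iff_isSolvable.2 hsolv
    exact ⟨⟨h2⟩⟩

section
variable {U N T : Subgroup G} (hU : IsCoatom U) (hcore : U.normalCore = ⊥) [hNn : N.Normal]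
  (hN : N ≠ ⊥) (hnab : ¬ ∀ x ∈ N, ∀ y ∈ N, x * y = y * x) (h : Fac N T)

include hnab h in
/-- three elements of distinct prime order in a factor -/
theorem exists_orders : ∃ x y z : G, x ∈ T ∧ y ∈ T ∧ z ∈ T ∧ x ≠ 1 ∧ y ≠ 1 ∧ z ≠ 1 ∧
    orderOf x ≠ orderOf y ∧ orderOf x ≠ orderOf z ∧ orderOf y ≠ orderOf z := by
  haveI := h.simple hnab
  obtain ⟨p, q, r, hp, hq, hr, hpd, hqd, hrd, h1, h2, h3⟩ := three_primes (h.not_comm hnab)
  have key : ∀ p : ℕ, p.Prime → p ∣ Nat.card T → ∃ x : G, x ∈ T ∧ orderOf x = p := by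
    intro p hp hpd
    haveI : Fact p.Prime := ⟨hp⟩
    obtain ⟨x, hx⟩ := exists_prime_orderOf_dvd_card' p hpd
    exact ⟨x, x.2, by rw [Subgroup.orderOf_coe, hx]⟩
  obtain ⟨x, hx, hx'⟩ := key p hp hpd
  obtain ⟨y, hy, hy'⟩ := key q hq hqd
  obtain ⟨z, hz, hz'⟩ := key r hr hrd
  have hne : ∀ {w : G} {m : ℕ}, orderOf w = m → m.Prime → w ≠ 1 := by
    intro w m hw hm h1
    rw [h1, orderOf_one] at hw
    exact hm.ne_one hw.symm
  exact ⟨x, y, z, hx, hy, hz, hne hx' hp, hne hy' hq, hne hz' hr, by rw [hx', hy']; exact h1,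
    by rw [hx', hz']; exact h2, by rw [hy', hz']; exact h3⟩

omit [Finite G] hNn in
theorem orderOf_conj' (g x : G) : orderOf (g * x * g⁻¹) = orderOf x := by
  have := MulEquiv.orderOf_eq (MulAut.conj g) x
  rwa [MulAut.conj_apply] at this

include hnab in
omit [Finite G] in
theorem fac_cancel {P : Subgroup G} (hP : Fac N P) {a t x y : G} (ha : a ∈ P) (ht : t ∈ P)
    (hx : ∀ z ∈ P, z * x = x * z) (hy : ∀ z ∈ P, z * y = y * z) (he : a * y = t * x) : a = t ∧ y = x := by
  have h1 : t⁻¹ * a = x * y⁻¹ := by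
    rw [inv_mul_eq_iff_eq_mul, ← mul_assoc, ← he, mul_inv_cancel_right]
  have h2 : t⁻¹ * a = 1 := by
    apply hP.center hnab (P.mul_mem (P.inv_mem ht) ha)
    intro z hz
    rw [h1]
    have hy' : z * y⁻¹ = y⁻¹ * z := by
      have := hy z hz
      rw [eq_inv_mul_iff_mul_eq, ← mul_assoc, ← this, mul_inv_cancel_right]
    rw [← mul_assoc, hx z hz, mul_assoc, hy', mul_assoc]
  rw [h2] at h1
  exact ⟨(inv_mul_eq_one.1 h2).symm, (mul_inv_eq_one.1 h1.symm).symm⟩

include hnab h in
omit [Finite G] in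
theorem nc1 {g0 : G} (hg0 : MulAut.conj g0 • T ≠ T) {t c : G} (ht : t ∈ T) (ht1 : t ≠ 1)
    (hc : c ∈ MulAut.conj g0 • T) (hc1 : c ≠ 1) (g : G) : g * t * g⁻¹ ≠ t * c := by
  intro he
  have hcC := (Fac.mem_C.1 (h.cj_le_C hg0 hc)).2
  have ha : g * t * g⁻¹ ∈ MulAut.conj g • T := cj_mem g ht
  rcases h.comm g with h1 | h1
  · rw [h1] at ha
    have := (fac_cancel hnab h ha ht hcC (y := 1) (fun z _ => by rw [mul_one, one_mul]) (by rw [mul_one, he])).2
    exact hc1 this.symm
  · apply ht1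
    apply h.center hnab ht
    intro x hx
    have h2 := h1 x hx _ ha
    rw [he] at h2
    have h3 := hcC x hx
    have h4 : x * t * c = t * x * c := by
      rw [mul_assoc, h2, mul_assoc, ← h3, mul_assoc]
    exact mul_right_cancel h4

include hnab h in
omit [Finite G] in
theorem cl {g k : G} (hgk : MulAut.conj g • T ≠ MulAut.conj k • T) {p q : G}
    {a b t c : G} (ha : a ∈ MulAut.conj g • T) (hb : b ∈ MulAut.conj k • T) (ht : t ∈ MulAut.conj p • T)
    (hc : c ∈ MulAut.conj q • T) (he : a * b = t * c) (ha1 : a ≠ 1) :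
    MulAut.conj g • T = MulAut.conj p • T ∨ MulAut.conj g • T = MulAut.conj q • T := by
  by_contra hcon
  push Not at hcon
  apply ha1
  apply (h.cj g).center hnab ha
  intro x hx
  have e1 := ((h.comm2 g k).resolve_left hgk) x hx b hb
  have e2 := ((h.comm2 g p).resolve_left hcon.1) x hx t ht
  have e3 := ((h.comm2 g q).resolve_left hcon.2) x hx c hc
  have e4 : x * (a * b) = (a * b) * x := by
    rw [he, ← mul_assoc, e2, mul_assoc, e3, mul_assoc]
  have e5 : x * a * b = a * x * b := by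
    rw [mul_assoc, e4, mul_assoc, ← e1, mul_assoc]
  exact mul_right_cancel e5

include hnab h in
omit [Finite G] in
theorem nc2 {g0 : G} (hg0 : MulAut.conj g0 • T ≠ T) {t c1 c2 : G} (ht : t ∈ T) (ht1 : t ≠ 1)
    (hc1 : c1 ∈ MulAut.conj g0 • T) (hc11 : c1 ≠ 1) (hc2 : c2 ∈ MulAut.conj g0 • T)
    (ho : orderOf c1 ≠ orderOf c2) (g : G) : g * (t * c1) * g⁻¹ ≠ t * c2 := by
  intro he
  have ha : g * t * g⁻¹ ∈ MulAut.conj g • T := cj_mem g ht
  have hb : g * c1 * g⁻¹ ∈ MulAut.conj (g * g0) • T := by rw [cj_mul]; exact cj_mem g hc1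
  have ht' : t ∈ MulAut.conj (1 : G) • T := by rw [cj_one]; exact ht
  have hne : MulAut.conj g • T ≠ MulAut.conj (g * g0) • T := by
    intro h1
    rw [cj_mul] at h1
    apply hg0
    have := congrArg (fun X : Subgroup G => MulAut.conj g⁻¹ • X) h1
    beta_reduce at this
    rw [← cj_mul, ← cj_mul, inv_mul_cancel, cj_one, cj_one] at this
    exact this.symm
  have hab : (g * t * g⁻¹) * (g * c1 * g⁻¹) = t * c2 := by rw [← he]; group
  have ha1 : g * t * g⁻¹ ≠ 1 := fun h1 => ht1 (by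
    have e : g⁻¹ * (g * t * g⁻¹) * g = t := by group
    rw [← e, h1]; group)
  have hb1 : g * c1 * g⁻¹ ≠ 1 := fun h1 => hc11 (by
    have e : g⁻¹ * (g * c1 * g⁻¹) * g = c1 := by group
    rw [← e, h1]; group)
  have hcomm := ((h.comm2 g (g * g0)).resolve_left hne)
  have hc2C := (Fac.mem_C.1 (h.cj_le_C hg0 hc2)).2
  rcases cl hnab h hne ha hb ht' hc2 hab ha1 with h1 | h1
  · rw [cj_one] at h1
    rw [h1] at ha hcomm
    have h2 := (fac_cancel hnab h ha ht hc2C (fun z hz => hcomm z hz _ hb) hab).2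
    apply ho
    rw [← h2, orderOf_conj']
  · have hab' : (g * c1 * g⁻¹) * (g * t * g⁻¹) = t * c2 := by rw [← hab, hcomm _ ha _ hb]
    rcases cl hnab h hne.symm hb ha ht' hc2 hab' hb1 with h2 | h2
    · rw [cj_one] at h2
      rw [h2] at hb
      rw [h1] at ha
      have h3 := fac_cancel hnab h hb ht hc2C (fun z hz => ((Fac.mem_C.1 (h.cj_le_C hg0 ha)).2 z hz)) hab'
      apply ho
      rw [← h3.2, orderOf_conj', ← orderOf_conj' g c1, h3.1]
    · exact hne (h1.trans h2.symm)

include hU hcore hN hnab h in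
/-- in the non-affine, non-almost-simple case there are three derangements in distinct classes -/
theorem three_classes (hnas : ¬ (T = N ∧ Subgroup.centralizer (N : Set G) = ⊥)) :
    ∃ x y z : G, (∀ g, g * x * g⁻¹ ∉ U) ∧ (∀ g, g * y * g⁻¹ ∉ U) ∧ (∀ g, g * z * g⁻¹ ∉ U) ∧
      (∀ g, g * x * g⁻¹ ≠ y) ∧ (∀ g, g * x * g⁻¹ ≠ z) ∧ (∀ g, g * y * g⁻¹ ≠ z) := by
  by_cases hTU : T ⊓ U = ⊥
  · obtain ⟨x, y, z, hx, hy, hz, hx1, hy1, hz1, h1, h2, h3⟩ := exists_orders hnab h
    refine ⟨x, y, z, semireg hU hcore hN h hTU hx hx1, semireg hU hcore hN h hTU hy hy1,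
      semireg hU hcore hN h hTU hz hz1, ?_, ?_, ?_⟩
    · rintro g rfl; exact h1 (orderOf_conj' g x).symm
    · rintro g rfl; exact h2 (orderOf_conj' g x).symm
    · rintro g rfl; exact h3 (orderOf_conj' g y).symm
  · have hTN : T ≠ N := fun hTN => hnas ⟨hTN, cent_bot hU hcore hN h hTU⟩
    have hex : ∃ g : G, MulAut.conj g • T ≠ T := by
      by_contra hcon
      push Not at hcon
      apply hTN
      rw [← h.span]
      apply le_antisymm
      · have := le_iSup (fun g : G => (MulAut.conj g • T : Subgroup G)) 1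
        rwa [cj_one] at this
      · exact iSup_le (fun g => (hcon g).le)
    obtain ⟨g0, hg0⟩ := hex
    obtain ⟨t, ht, hst⟩ := exists_strong hU hcore hN hnab h hTU
    have ht0 : ∀ g, g * t * g⁻¹ ∉ U := by
      intro x
      have := hst 1 (Fac.C N T).one_mem x
      rwa [mul_one] at this
    have ht1 : t ≠ 1 := by
      intro h1
      apply ht0 1
      rw [h1, mul_one, mul_inv_cancel]
      exact U.one_mem
    obtain ⟨c1, c2, -, hc1, hc2, -, hc11, hc21, -, ho, -, -⟩ := exists_orders hnab (h.cj g0)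
    refine ⟨t, t * c1, t * c2, ht0, hst c1 (h.cj_le_C hg0 hc1), hst c2 (h.cj_le_C hg0 hc2), ?_, ?_, ?_⟩
    · exact nc1 hnab h hg0 ht ht1 hc1 hc11
    · exact nc1 hnab h hg0 ht ht1 hc2 hc21
    · exact nc2 hnab h hg0 ht ht1 hc1 hc11 hc2 ho

end

end CfsgL.ONS
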