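import Cfsg.Agent.L.PermG.ONS3
import Cfsg.Agent.L.PermG.TwoTrans
/-!
Derangements of affine primitive groups.
-/
set_option autoImplicit false
set_option maxHeartbeats 400000
namespace CfsgL.ONS
open Subgroup MulAction
open scoped Pointwise commutatorElement

variable {G : Type*} [Group G] [Finite G] {Ω : Type*} [Finite Ω] [MulAction G Ω]

theorem burn [IsPretransitive G Ω] [Nonempty Ω] [Fintype G] : ∑ g : G, Nat.card (fixedBy Ω g) = Nat.card G := by
  classical
  haveI := Fintype.ofFinite Ω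
  haveI : Fintype (orbitRel.Quotient G Ω) := Fintype.ofFinite _
  have h1 := sum_card_fixedBy_eq_card_orbits_mul_card_group G Ω
  have h2 : Fintype.card (orbitRel.Quotient G Ω) = 1 := by
    rw [Fintype.card_eq_one_iff_nonempty_unique]
    exact (pretransitive_iff_unique_quotient_of_nonempty G Ω).1 inferInstance
  rw [h2, one_mul] at h1
  rw [Nat.card_eq_fintype_card, ← h1]
  apply Finset.sum_congr rfl
  intro g _
  rw [Nat.card_eq_fintype_card]

theorem fixedBy_one_card : Nat.card (fixedBy Ω (1 : G)) = Nat.card Ω := by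
  apply Nat.card_congr
  exact ⟨fun y => y.1, fun y => ⟨y, one_smul _ _⟩, fun y => rfl, fun y => rfl⟩

omit [Finite G] in
theorem fix_zero_iff (g : G) : Nat.card (fixedBy Ω g) = 0 ↔ ∀ ω : Ω, g • ω ≠ ω := by
  rw [Nat.card_eq_zero]
  constructor
  · rintro (h | h)
    · intro ω hω
      exact h.false ⟨ω, hω⟩
    · exact absurd h (by rw [not_infinite_iff_finite]; infer_instance)
  · intro h
    left
    exact ⟨fun x => h x.1 x.2⟩

omit [Finite G] [Finite Ω] in
theorem derange_of_mem {N : Subgroup G} (hst : ∀ ω : Ω, stabilizer N ω = ⊥) {n : G} (hn : n ∈ N) (hn1 : n ≠ 1)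
    (ω : Ω) : n • ω ≠ ω := by
  intro h
  have h1 : (⟨n, hn⟩ : N) ∈ stabilizer N ω := h
  rw [hst ω, Subgroup.mem_bot] at h1
  exact hn1 (congrArg Subtype.val h1)

omit [Finite G] in
theorem card_reg [Nonempty Ω] {N : Subgroup G} (htr : IsPretransitive N Ω) (hst : ∀ ω : Ω, stabilizer N ω = ⊥) :
    Nat.card N = Nat.card Ω := by
  obtain ⟨ω⟩ := ‹Nonempty Ω›
  apply Nat.card_congr
  refine Equiv.ofBijective (fun n : N => n • ω) ⟨?_, ?_⟩
  · intro a b hab
    have h1 : b⁻¹ * a ∈ stabilizer N ω := by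
      change (b⁻¹ * a) • ω = ω
      rw [mul_smul]
      change b⁻¹ • (a • ω) = ω
      have hab' : a • ω = b • ω := hab
      rw [hab', inv_smul_smul]
    rw [hst ω, Subgroup.mem_bot] at h1
    exact (inv_mul_eq_one.1 h1).symm
  · intro x
    exact MulAction.exists_smul_eq N ω x

theorem fix_le_one [IsPretransitive G Ω] [Nonempty Ω] {N : Subgroup G} (htr : IsPretransitive N Ω)
    (hst : ∀ ω : Ω, stabilizer N ω = ⊥) (hD : ∀ g : G, (∀ ω : Ω, g • ω ≠ ω) → g ∈ N) (g : G) (hg : g ≠ 1) :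
    Nat.card (fixedBy Ω g) ≤ 1 := by
  classical
  haveI := Fintype.ofFinite G
  by_contra hcon
  push Not at hcon
  have h1 := burn (G := G) (Ω := Ω)
  have hgN : g ∉ N := by
    intro hgN
    have := (fix_zero_iff (Ω := Ω) g).2 (derange_of_mem hst hgN hg)
    omega
  rw [← Finset.sum_filter_add_sum_filter_not Finset.univ (fun x => x ∈ N)] at h1
  have h2 : ∑ x ∈ Finset.univ.filter (fun x : G => x ∈ N), Nat.card (fixedBy Ω x) = Nat.card N := by
    rw [Finset.sum_eq_single (1 : G)]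
    · rw [fixedBy_one_card, card_reg htr hst]
    · intro x hx hx1
      exact (fix_zero_iff x).2 (derange_of_mem hst (Finset.mem_filter.1 hx).2 hx1)
    · intro h
      exact absurd (Finset.mem_filter.2 ⟨Finset.mem_univ _, N.one_mem⟩) h
  have h3 : ∑ x ∈ Finset.univ.filter (fun x : G => x ∉ N), 1 <
      ∑ x ∈ Finset.univ.filter (fun x : G => x ∉ N), Nat.card (fixedBy Ω x) := by
    apply Finset.sum_lt_sum
    · intro x hx
      rw [Nat.one_le_iff_ne_zero]
      intro h
      exact (Finset.mem_filter.1 hx).2 (hD x ((fix_zero_iff x).1 h))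
    · exact ⟨g, Finset.mem_filter.2 ⟨Finset.mem_univ _, hgN⟩, hcon⟩
  rw [Finset.sum_const, smul_eq_mul, mul_one] at h3
  have h4 := Finset.card_filter_add_card_filter_not (s := (Finset.univ : Finset G)) (fun x => x ∈ N)
  have h5 : (Finset.univ.filter (fun x : G => x ∈ N)).card = Nat.card N := by
    rw [Nat.card_eq_fintype_card, Fintype.card_subtype]
  rw [Finset.card_univ, ← Nat.card_eq_fintype_card] at h4
  omega

/-- in a sharply 2-transitive group all derangements are conjugate -/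
theorem sharp_one [IsPretransitive G Ω] (hΩ : 2 ≤ Nat.card Ω) (α : Ω) (h2 : ∀ β γ : Ω, β ≠ α → γ ≠ α → ∃ u : G, u • α = α ∧ u • β = γ)
    (hfix : ∀ g : G, g ≠ 1 → Nat.card (fixedBy Ω g) ≤ 1) :
    (∃ d : G, ∀ ω : Ω, d • ω ≠ ω) ∧ ∀ d d' : G, (∀ ω : Ω, d • ω ≠ ω) → (∀ ω : Ω, d' • ω ≠ ω) → ∃ g : G, g * d * g⁻¹ = d' := by
  classical
  haveI := Fintype.ofFinite G
  haveI := Fintype.ofFinite Ω
  haveI : Nonempty Ω := ⟨α⟩
  have h1 := burn (G := G) (Ω := Ω)
  let D : Finset G := Finset.univ.filter (fun g => ∀ ω : Ω, g • ω ≠ ω)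
  have hDm : ∀ {g}, g ∈ D ↔ ∀ ω : Ω, g • ω ≠ ω := fun {g} => by simp [D]
  have hD : D.card + 1 = Nat.card Ω := by
    rw [← Finset.add_sum_erase _ _ (Finset.mem_univ (1 : G)), fixedBy_one_card] at h1
    have h3 : ∑ x ∈ Finset.univ.erase (1 : G), Nat.card (fixedBy Ω x) = ((Finset.univ.erase (1 : G)).filter (fun g => g ∉ D)).card := by
      rw [Finset.card_filter]
      apply Finset.sum_congr rfl
      intro x hx
      have hx1 := Finset.ne_of_mem_erase hx
      have h4 := hfix x hx1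
      by_cases hxD : x ∈ D
      · rw [if_neg (not_not.2 hxD)]
        exact (fix_zero_iff x).2 (hDm.1 hxD)
      · rw [if_pos hxD]
        have : Nat.card (fixedBy Ω x) ≠ 0 := fun h => hxD (hDm.2 ((fix_zero_iff x).1 h))
        omega
    rw [h3] at h1
    have h4 := Finset.card_filter_add_card_filter_not (s := (Finset.univ.erase (1 : G))) (fun x => x ∈ D)
    have h5 : (Finset.univ.erase (1 : G)).filter (fun x => x ∈ D) = D := by
      ext x
      rw [Finset.mem_filter, Finset.mem_erase]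
      refine ⟨fun h => h.2, fun h => ⟨⟨?_, Finset.mem_univ _⟩, h⟩⟩
      rintro rfl
      exact hDm.1 h α (one_smul _ _)
    rw [h5, Finset.card_erase_of_mem (Finset.mem_univ _), Finset.card_univ, ← Nat.card_eq_fintype_card] at h4
    have h6 : 0 < Nat.card G := Nat.card_pos
    omega
  have hDne : D.Nonempty := by
    rw [← Finset.card_pos]; omega
  obtain ⟨d0, hd0⟩ := hDne
  have hconj : ∀ (u d : G), d ∈ D → u * d * u⁻¹ ∈ D := by
    intro u d hd
    rw [hDm] at hd ⊢
    intro ω hω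
    apply hd (u⁻¹ • ω)
    rw [mul_smul, mul_smul] at hω
    exact eq_inv_smul_iff.2 hω
  -- image of D
  have himg : D.image (fun d => d • α) = Finset.univ.erase α := by
    ext ω
    rw [Finset.mem_image, Finset.mem_erase]
    constructor
    · rintro ⟨d, hd, rfl⟩
      exact ⟨hDm.1 hd α, Finset.mem_univ _⟩
    · rintro ⟨hω, -⟩
      obtain ⟨u, hu, hu2⟩ := h2 (d0 • α) ω (hDm.1 hd0 α) hω
      refine ⟨u * d0 * u⁻¹, hconj u d0 hd0, ?_⟩
      rw [mul_smul, mul_smul, inv_smul_eq_iff.2 hu.symm, hu2]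
  have hinj : Set.InjOn (fun d : G => d • α) (D : Set G) := by
    apply Finset.injOn_of_card_image_eq
    rw [himg, Finset.card_erase_of_mem (Finset.mem_univ _), Finset.card_univ, ← Nat.card_eq_fintype_card]
    omega
  refine ⟨⟨d0, hDm.1 hd0⟩, fun d d' hd hd' => ?_⟩
  obtain ⟨u, hu, hu2⟩ := h2 (d • α) (d' • α) (hd α) (hd' α)
  refine ⟨u, ?_⟩
  apply hinj (hconj u d (hDm.2 hd)) (hDm.2 hd')
  change (u * d * u⁻¹) • α = d' • α
  rw [mul_smul, mul_smul, inv_smul_eq_iff.2 hu.symm, hu2]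

end CfsgL.ONS
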