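import Cfsg.Agent.L.PermG.ONS4
/-!
Primitive groups with at most two classes of derangements.
-/
set_option autoImplicit false
set_option maxHeartbeats 400000
namespace CfsgL.ONS
open Subgroup MulAction
open scoped Pointwise commutatorElement

variable {G : Type*} [Group G] [Finite G] {Ω : Type*} [Finite Ω] [MulAction G Ω]

theorem dichotomy [FaithfulSMul G Ω] (hprim : IsPreprimitive G Ω) (hΩ : 2 ≤ Nat.card Ω)
    (hnas : ¬ ∃ T : Subgroup G, T.Normal ∧ IsSimpleGroup T ∧ ¬ IsMulCommutative T ∧ Subgroup.centralizer (T : Set G) = ⊥) :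
    (∃ x y z : G, (∀ ω : Ω, x • ω ≠ ω) ∧ (∀ ω : Ω, y • ω ≠ ω) ∧ (∀ ω : Ω, z • ω ≠ ω) ∧
      (∀ g, g * x * g⁻¹ ≠ y) ∧ (∀ g, g * x * g⁻¹ ≠ z) ∧ (∀ g, g * y * g⁻¹ ≠ z)) ∨
    (∃ N : Subgroup G, N.Normal ∧ N ≠ ⊥ ∧ (∀ x ∈ N, ∀ y ∈ N, x * y = y * x) ∧ IsPretransitive N Ω ∧
      ∀ ω : Ω, stabilizer N ω = ⊥) := by
  classical
  haveI : Nontrivial Ω := Finite.one_lt_card_iff_nontrivial.1 hΩ
  obtain ⟨α⟩ : Nonempty Ω := inferInstance
  obtain ⟨hU, hcore⟩ := prim_data hprim hΩ α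
  haveI : MulAction.IsPretransitive G Ω := hprim.toIsPretransitive
  haveI : Nontrivial G := by
    obtain ⟨β, hβ⟩ := exists_ne α
    obtain ⟨x, hx⟩ := MulAction.exists_smul_eq G α β
    exact ⟨x, 1, fun h => hβ (by rw [← hx, h, one_smul])⟩
  obtain ⟨N, hNn, hN, hmin⟩ := CfsgH1.exists_minNormal (G := G)
  by_cases hab : ∀ x ∈ N, ∀ y ∈ N, x * y = y * x
  · right
    have hNU := (CfsgH1.cf_abelian hU hcore hN hab).2
    exact ⟨N, hNn, hN, hab, affine_trans α hU hcore hN, affine_stab α hNU⟩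
  · left
    obtain ⟨T, hT⟩ := exists_fac N hN hmin
    obtain ⟨x, y, z, hx, hy, hz, h1, h2, h3⟩ := three_classes hU hcore hN hab hT (by
      rintro ⟨rfl, h2⟩
      exact hnas ⟨T, hNn, hT.simple hab, hT.not_comm hab, h2⟩)
    exact ⟨x, y, z, (derange_iff α x).2 hx, (derange_iff α y).2 hy, (derange_iff α z).2 hz, h1, h2, h3⟩

/-- derangement classes -/
abbrev DC (G Ω : Type*) [Group G] [MulAction G Ω] : Type _ :=
  {c : ConjClasses G // ∃ g : G, ConjClasses.mk g = c ∧ ∀ ω : Ω, g • ω ≠ ω}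

def dc {g : G} (h : ∀ ω : Ω, g • ω ≠ ω) : DC G Ω := ⟨ConjClasses.mk g, g, rfl, h⟩

omit [Finite G] [Finite Ω] in
theorem dc_eq {g k : G} (hg : ∀ ω : Ω, g • ω ≠ ω) (hk : ∀ ω : Ω, k • ω ≠ ω) : dc hg = dc hk ↔ ∃ c : G, c * g * c⁻¹ = k := by
  unfold dc
  rw [Subtype.mk.injEq, ConjClasses.mk_eq_mk_iff_isConj, isConj_iff]

/-- conjugation inside the stabilizer -/
theorem stab_conj {N : Subgroup G} [hNn : N.Normal] (hab : ∀ x ∈ N, ∀ y ∈ N, x * y = y * x) (htr : IsPretransitive N Ω)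
    (α : Ω) {n m g : G} (hm : m ∈ N) (hg : g * n * g⁻¹ = m) : ∃ u : G, u • α = α ∧ u * n * u⁻¹ = m := by
  obtain ⟨k, hk⟩ := MulAction.exists_smul_eq N α (g • α)
  have hk' : (k : G) • α = g • α := hk
  refine ⟨(k : G)⁻¹ * g, ?_, ?_⟩
  · rw [mul_smul, ← hk', inv_smul_smul]
  · have e : (k : G)⁻¹ * g * n * ((k : G)⁻¹ * g)⁻¹ = (k : G)⁻¹ * (g * n * g⁻¹) * k := by group
    rw [e, hg, mul_assoc, hab m hm k k.2, inv_mul_cancel_left]

theorem two_trans_of {N : Subgroup G} [hNn : N.Normal] (hab : ∀ x ∈ N, ∀ y ∈ N, x * y = y * x) (htr : IsPretransitive N Ω)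
    (α : Ω) (hone : ∀ n ∈ N, ∀ m ∈ N, n ≠ 1 → m ≠ 1 → ∃ g : G, g * n * g⁻¹ = m) (β γ : Ω) (hβ : β ≠ α) (hγ : γ ≠ α) :
    ∃ u : G, u • α = α ∧ u • β = γ := by
  obtain ⟨n, hn⟩ := MulAction.exists_smul_eq N α β
  obtain ⟨m, hm⟩ := MulAction.exists_smul_eq N α γ
  have hn' : (n : G) • α = β := hn
  have hm' : (m : G) • α = γ := hm
  have hn1 : (n : G) ≠ 1 := fun h => hβ (by rw [← hn', h, one_smul])
  have hm1 : (m : G) ≠ 1 := fun h => hγ (by rw [← hm', h, one_smul])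
  obtain ⟨g, hg⟩ := hone n n.2 m m.2 hn1 hm1
  obtain ⟨u, hu, hu2⟩ := stab_conj hab htr α m.2 hg
  refine ⟨u, hu, ?_⟩
  rw [← hn', ← hm', ← hu2, mul_smul, mul_smul, inv_smul_eq_iff.2 hu.symm]

theorem t2_of [IsPretransitive G Ω] (α : Ω) (h : ∀ β γ : Ω, β ≠ α → γ ≠ α → ∃ u : G, u • α = α ∧ u • β = γ) :
    CfsgL.PermG.T2 G Ω := by
  intro a b c d hab hcd
  obtain ⟨x, hx⟩ := MulAction.exists_smul_eq G a α
  obtain ⟨y, hy⟩ := MulAction.exists_smul_eq G c α
  obtain ⟨u, hu, hu2⟩ := h (x • b) (y • d) (by rw [← hx]; exact fun h => hab (smul_left_cancel x h).symm)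
    (by rw [← hy]; exact fun h => hcd (smul_left_cancel y h).symm)
  refine ⟨y⁻¹ * u * x, ?_, ?_⟩
  · rw [mul_smul, mul_smul, hx, hu, inv_smul_eq_iff, hy]
  · rw [mul_smul, mul_smul, hu2, inv_smul_smul]

theorem fix_le_iff (g : G) : Nat.card (fixedBy Ω g) ≤ 1 ↔ ∀ a b : Ω, a ≠ b → g • a = a → g • b ≠ b := by
  rw [Finite.card_le_one_iff_subsingleton]
  constructor
  · intro h a b hab ha hb
    exact hab (congrArg Subtype.val (Subsingleton.elim (⟨a, ha⟩ : fixedBy Ω g) ⟨b, hb⟩))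
  · intro h
    constructor
    rintro ⟨a, ha⟩ ⟨b, hb⟩
    by_contra hab
    exact h a b (fun e => hab (Subtype.ext e)) ha hb

theorem main3501 [FaithfulSMul G Ω] (hprim : IsPreprimitive G Ω) (hΩ : 2 ≤ Nat.card Ω)
    (hnas : ¬ ∃ T : Subgroup G, T.Normal ∧ IsSimpleGroup T ∧ ¬ IsMulCommutative T ∧ Subgroup.centralizer (T : Set G) = ⊥) :
    Nat.card (DC G Ω) = 1 ↔ (IsMultiplyPretransitive G Ω 2 ∧ ∀ g : G, g ≠ 1 → ∀ a b : Ω, a ≠ b → g • a = a → g • b ≠ b) := by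
  classical
  haveI : Nontrivial Ω := Finite.one_lt_card_iff_nontrivial.1 hΩ
  obtain ⟨α⟩ : Nonempty Ω := inferInstance
  haveI : MulAction.IsPretransitive G Ω := hprim.toIsPretransitive
  constructor
  · intro hc
    have hsub : Subsingleton (DC G Ω) := (Nat.card_eq_one_iff_unique.1 hc).1
    rcases dichotomy hprim hΩ hnas with ⟨x, y, z, hx, hy, -, h1, -, -⟩ | ⟨N, hNn, hN, hab, htr, hst⟩
    · exfalso
      obtain ⟨g, hg⟩ := (dc_eq hx hy).1 (Subsingleton.elim _ _)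
      exact h1 g hg
    · have hone : ∀ n ∈ N, ∀ m ∈ N, n ≠ 1 → m ≠ 1 → ∃ g : G, g * n * g⁻¹ = m := fun n hn m hm hn1 hm1 =>
        (dc_eq (derange_of_mem hst hn hn1) (derange_of_mem hst hm hm1)).1 (Subsingleton.elim _ _)
      have hD : ∀ g : G, (∀ ω : Ω, g • ω ≠ ω) → g ∈ N := by
        intro g hg
        obtain ⟨n, hn⟩ := Subgroup.ne_bot_iff_exists_ne_one.1 hN
        have hn1 : (n : G) ≠ 1 := fun h => hn (Subtype.ext h)
        obtain ⟨k, hk⟩ := (dc_eq (derange_of_mem hst n.2 hn1) hg).1 (Subsingleton.elim _ _)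
        rw [← hk]
        exact hNn.conj_mem _ n.2 k
      refine ⟨CfsgL.PermG.t2_iff.2 (t2_of α (two_trans_of hab htr α hone)), fun g hg => ?_⟩
      exact (fix_le_iff g).1 (fix_le_one htr hst hD g hg)
  · rintro ⟨h2, hf⟩
    rw [CfsgL.PermG.t2_iff] at h2
    obtain ⟨⟨d, hd⟩, hall⟩ := sharp_one hΩ α (fun β γ hβ hγ => h2 α β α γ hβ.symm hγ.symm)
      (fun g hg => (fix_le_iff g).2 (hf g hg))
    rw [Nat.card_eq_one_iff_unique]
    refine ⟨⟨?_⟩, ⟨dc hd⟩⟩
    rintro ⟨_, g, rfl, hg⟩ ⟨_, k, rfl, hk⟩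
    exact (dc_eq hg hk).2 (hall g k hg hk)

theorem main3520 [FaithfulSMul G Ω] (hprim : IsPreprimitive G Ω) (hΩ : 2 ≤ Nat.card Ω)
    (hnas : ¬ ∃ T : Subgroup G, T.Normal ∧ IsSimpleGroup T ∧ ¬ IsMulCommutative T ∧ Subgroup.centralizer (T : Set G) = ⊥)
    (hκ : Nat.card (DC G Ω) = 2) (α : Ω) :
    ((∃ N : Subgroup G, N.Normal ∧ N ≠ ⊥ ∧ IsMulCommutative N ∧ ∀ ω : Ω, MulAction.stabilizer N ω = ⊥) ∧ (∀ g : G, g ≠ 1 → Nat.card (MulAction.fixedBy Ω g) ≤ 1) ∧ ¬ 2 ∣ Nat.card Ω ∧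
        2 * Nat.card (MulAction.stabilizer G α) = Nat.card Ω - 1) ∨
    ((∃ N : Subgroup G, N.Normal ∧ N ≠ ⊥ ∧ IsMulCommutative N ∧ ∀ ω : Ω, MulAction.stabilizer N ω = ⊥) ∧ MulAction.IsMultiplyPretransitive G Ω 2 ∧ ∃ g : G, g ≠ 1 ∧ 2 ≤ Nat.card (MulAction.fixedBy Ω g)) := by
  classical
  haveI : Nontrivial Ω := Finite.one_lt_card_iff_nontrivial.1 hΩ
  haveI : MulAction.IsPretransitive G Ω := hprim.toIsPretransitive
  haveI : Finite (DC G Ω) := Nat.finite_of_card_ne_zero (by rw [hκ]; omega)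
  have htwo : ∀ a b c : DC G Ω, a ≠ b → c = a ∨ c = b := by
    intro a b c hab
    by_contra hcon
    push Not at hcon
    have hinj : Function.Injective (![a, b, c] : Fin 3 → DC G Ω) := by
      intro i j hij
      fin_cases i <;> fin_cases j <;> simp at hij ⊢
      · exact hab hij
      · exact hcon.1 hij.symm
      · exact hab hij.symm
      · exact hcon.2 hij.symm
      · exact hcon.1 hij
      · exact hcon.2 hij
    have := Nat.card_le_card_of_injective _ hinj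
    rw [hκ, Nat.card_fin] at this
    omega
  rcases dichotomy hprim hΩ hnas with ⟨x, y, z, hx, hy, hz, h1, h2, h3⟩ | ⟨N, hNn, hN, hab, htr, hst⟩
  · exfalso
    have hxy : dc hx ≠ dc hy := fun h => by
      obtain ⟨g, hg⟩ := (dc_eq hx hy).1 h
      exact h1 g hg
    rcases htwo (dc hx) (dc hy) (dc hz) hxy with h | h
    · obtain ⟨g, hg⟩ := (dc_eq hx hz).1 h.symm
      exact h2 g hg
    · obtain ⟨g, hg⟩ := (dc_eq hy hz).1 h.symm
      exact h3 g hg
  · have hNdata : ∃ N : Subgroup G, N.Normal ∧ N ≠ ⊥ ∧ IsMulCommutative N ∧ ∀ ω : Ω, MulAction.stabilizer N ω = ⊥ :=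
      ⟨N, hNn, hN, ⟨⟨fun a b => Subtype.ext (hab a a.2 b b.2)⟩⟩, hst⟩
    by_cases hone : ∀ n ∈ N, ∀ m ∈ N, n ≠ 1 → m ≠ 1 → ∃ g : G, g * n * g⁻¹ = m
    · right
      have h2t := two_trans_of hab htr α hone
      refine ⟨hNdata, CfsgL.PermG.t2_iff.2 (t2_of α h2t), ?_⟩
      by_contra hcon
      push Not at hcon
      obtain ⟨⟨d, hd⟩, hall⟩ := sharp_one hΩ α h2t (fun g hg => Nat.lt_succ_iff.1 (hcon g hg))
      have : Nat.card (DC G Ω) = 1 := by
        rw [Nat.card_eq_one_iff_unique]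
        refine ⟨⟨?_⟩, ⟨dc hd⟩⟩
        rintro ⟨_, g, rfl, hg⟩ ⟨_, k, rfl, hk⟩
        exact (dc_eq hg hk).2 (hall g k hg hk)
      omega
    · left
      push Not at hone
      obtain ⟨n1, hn1, n2, hn2, hn11, hn21, hnc⟩ := hone
      have hd1 := derange_of_mem hst hn1 hn11
      have hd2 := derange_of_mem hst hn2 hn21
      have hne : dc hd1 ≠ dc hd2 := fun h => by
        obtain ⟨g, hg⟩ := (dc_eq hd1 hd2).1 h
        exact hnc g hg
      have hcl : ∀ g : G, (∀ ω : Ω, g • ω ≠ ω) → (∃ k : G, k * n1 * k⁻¹ = g) ∨ ∃ k : G, k * n2 * k⁻¹ = g := by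
        intro g hg
        rcases htwo _ _ (dc hg) hne with h | h
        · exact Or.inl ((dc_eq hd1 hg).1 h.symm)
        · exact Or.inr ((dc_eq hd2 hg).1 h.symm)
      have hD : ∀ g : G, (∀ ω : Ω, g • ω ≠ ω) → g ∈ N := by
        intro g hg
        rcases hcl g hg with ⟨k, hk⟩ | ⟨k, hk⟩
        · rw [← hk]; exact hNn.conj_mem _ hn1 k
        · rw [← hk]; exact hNn.conj_mem _ hn2 k
      have hfix := fix_le_one htr hst hD
      -- counting
      let U := stabilizer G α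
      have hsemi : ∀ u ∈ U, ∀ n ∈ N, n ≠ 1 → u * n * u⁻¹ = n → u = 1 := by
        intro u hu n hn hn1 he
        by_contra hu1
        have h1 := (fix_le_iff u).1 (hfix u hu1) α (n • α) (derange_of_mem hst hn hn1 α).symm hu
        apply h1
        have e : u * n = n * u := mul_inv_eq_iff_eq_mul.1 he
        rw [← mul_smul, e, mul_smul, (show u • α = α from hu)]
      let nn : Bool → G := fun b => if b then n1 else n2
      have hnn : ∀ b, nn b ∈ N ∧ nn b ≠ 1 := by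
        intro b
        cases b
        · exact ⟨hn2, hn21⟩
        · exact ⟨hn1, hn11⟩
      have hcount : Nat.card (U × Bool) = Nat.card {x : N // x ≠ 1} := by
        apply Nat.card_congr
        refine Equiv.ofBijective (fun p => ⟨⟨(p.1 : G) * nn p.2 * (p.1 : G)⁻¹, hNn.conj_mem _ (hnn p.2).1 _⟩, ?_⟩) ⟨?_, ?_⟩
        · intro h
          have h1 : (p.1 : G) * nn p.2 * (p.1 : G)⁻¹ = 1 := congrArg Subtype.val h
          apply (hnn p.2).2
          have e : (p.1 : G)⁻¹ * ((p.1 : G) * nn p.2 * (p.1 : G)⁻¹) * p.1 = nn p.2 := by group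
          rw [← e, h1]; group
        · rintro ⟨u, b⟩ ⟨v, c⟩ h
          have h1 : (u : G) * nn b * (u : G)⁻¹ = (v : G) * nn c * (v : G)⁻¹ :=
            congrArg (fun x : {x : N // x ≠ 1} => ((x : N) : G)) h
          have h2 : ((v : G)⁻¹ * u) * nn b * ((v : G)⁻¹ * u)⁻¹ = nn c := by
            have e : ((v : G)⁻¹ * u) * nn b * ((v : G)⁻¹ * u)⁻¹ = (v : G)⁻¹ * ((u : G) * nn b * (u : G)⁻¹) * v := by group
            rw [e, h1]; group
          have hbc : b = c := by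
            cases b <;> cases c
            · rfl
            · exfalso
              apply hnc ((v : G)⁻¹ * u)⁻¹
              have h3 : ((v : G)⁻¹ * u) * n2 * ((v : G)⁻¹ * u)⁻¹ = n1 := h2
              rw [← h3]; group
            · exfalso
              exact hnc _ h2
            · rfl
          subst hbc
          have h3 := hsemi _ (U.mul_mem (U.inv_mem v.2) u.2) (nn b) (hnn b).1 (hnn b).2 h2
          have h4 : (u : G) = v := (inv_mul_eq_one.1 h3).symm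
          exact Prod.ext (Subtype.ext h4) rfl
        · rintro ⟨⟨x, hx⟩, hx1⟩
          have hx1' : x ≠ 1 := fun h => hx1 (Subtype.ext h)
          rcases hcl x (derange_of_mem hst hx hx1') with ⟨k, hk⟩ | ⟨k, hk⟩
          · obtain ⟨u, hu, hu2⟩ := stab_conj hab htr α hx hk
            exact ⟨⟨⟨u, hu⟩, true⟩, Subtype.ext (Subtype.ext hu2)⟩
          · obtain ⟨u, hu, hu2⟩ := stab_conj hab htr α hx hk
            exact ⟨⟨⟨u, hu⟩, false⟩, Subtype.ext (Subtype.ext hu2)⟩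
      have hc1 : Nat.card (U × Bool) = Nat.card U * 2 := by
        rw [Nat.card_prod]; simp
      have hc2 : Nat.card {x : N // x ≠ 1} = Nat.card N - 1 := by
        haveI := Fintype.ofFinite N
        rw [Nat.card_eq_fintype_card, Fintype.card_subtype_compl, Fintype.card_subtype_eq, Nat.card_eq_fintype_card]
      have hc3 := card_reg htr hst
      have hUpos : 0 < Nat.card U := Nat.card_pos
      refine ⟨hNdata, hfix, ?_, ?_⟩
      · omega
      · change 2 * Nat.card U = _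
        omega

end CfsgL.ONS
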